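import Groth.Agent.Lib.LimH13.Stalk

/-!
# A limit of flat schemes over a base is flat
-/

universe u

set_option backward.isDefEq.respectTransparency false
set_option backward.defeqAttrib.useBackward true
set_option linter.style.haveILetI false

open CategoryTheory CategoryTheory.Limits AlgebraicGeometry TopologicalSpace

namespace Groth.Agent.TorsorLim25

open Groth.Agent.LimH13

variable {I : Type u} [SmallCategory I] [IsCofiltered I] {D : I ⥤ Scheme.{u}} {c : Cone D}

/-- A limit, with affine transition maps, of schemes flat over `X` is flat over `X`. -/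
theorem flat_of_isLimit [∀ {i j : I} (f : i ⟶ j), IsAffineHom (D.map f)] (hc : IsLimit c) {X : Scheme.{u}}
    (q : ∀ i, D.obj i ⟶ X) (hD : ∀ {i j : I} (a : j ⟶ i), D.map a ≫ q i = q j) (hq : ∀ i, Flat (q i))
    (p : c.pt ⟶ X) (hp : ∀ i, c.π.app i ≫ q i = p) : Flat p := by
  refine Flat.of_stalkMap p fun x => ?_
  algebraize [(p.stalkMap x).hom]
  show Module.Flat _ _
  rw [Module.Flat.iff_forall_isTrivialRelation]
  intro l f y hrel
  obtain ⟨i⟩ := IsCofiltered.nonempty (C := I)
  have hpx : ∀ k, q k (c.π.app k x) = p x := fun k => congrArg (fun m => m x) (hp k)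
  let θ : ∀ k, X.presheaf.stalk (p x) ⟶ (D.obj k).presheaf.stalk (c.π.app k x) := fun k =>
    (X.presheaf.stalkCongr (.of_eq (hpx k).symm)).hom ≫ (q k).stalkMap (c.π.app k x)
  have hθflat : ∀ k, (θ k).hom.Flat := fun k => by
    haveI := hq k
    simp only [θ, CommRingCat.hom_comp]
    exact RingHom.Flat.comp
      (RingHom.Flat.of_bijective (ConcreteCategory.bijective_of_isIso
        (X.presheaf.stalkCongr (.of_eq (hpx k).symm)).hom))
      (Flat.stalkMap _ _)
  have hgθ : ∀ (k : I) (U : X.Opens) (hU : p x ∈ U), X.presheaf.germ U (p x) hU ≫ θ k =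
      (q k).app U ≫ (D.obj k).presheaf.germ (q k ⁻¹ᵁ U) _ (show q k (c.π.app k x) ∈ U by rw [hpx k]; exact hU) :=
    fun k U hU => by simp [θ, Scheme.Hom.germ_stalkMap]
  have hθ : ∀ k, θ k ≫ (c.π.app k).stalkMap x = p.stalkMap x := fun k => by
    refine TopCat.Presheaf.stalk_hom_ext _ fun U hU => ?_
    rw [reassoc_of% (hgθ k U hU), Scheme.Hom.germ_stalkMap, Scheme.Hom.germ_stalkMap,
      Scheme.Hom.congr_app (hp k).symm U, Scheme.Hom.comp_app]
    simp
  have hθθ : ∀ {k j : I} (a : k ⟶ j), θ j ≫ stageStalkMap x a = θ k := fun {k j} a => by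
    refine TopCat.Presheaf.stalk_hom_ext _ fun U hU => ?_
    rw [reassoc_of% (hgθ j U hU), germ_stageStalkMap, hgθ k U hU,
      Scheme.Hom.congr_app (hD a).symm U, Scheme.Hom.comp_app]
    simp
  obtain ⟨j, a, w, hw⟩ := exists_stalkMap_eq_finset hc x i y
  have h0 : (c.π.app j).stalkMap x (∑ r, θ j (f r) * w r) = 0 := by
    rw [map_sum, ← hrel]
    refine Finset.sum_congr rfl fun r _ => ?_
    rw [map_mul, ← CommRingCat.comp_apply, hθ, hw r]
    rfl
  obtain ⟨k, b, hb⟩ := exists_stageStalkMap_eq_zero hc x _ h0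
  have hσ : ∀ t, stageStalkMap x b (θ j t) = θ k t := fun t => by rw [← CommRingCat.comp_apply, hθθ]
  rw [map_sum] at hb
  simp only [map_mul, hσ] at hb
  have hflat := hθflat k
  algebraize [(θ k).hom]
  obtain ⟨κ, g, z, hz, hzero⟩ := Module.Flat.isTrivialRelation_of_sum_smul_eq_zero
    (R := X.presheaf.stalk (p x))
    (M := (D.obj k).presheaf.stalk (c.π.app k x)) (f := f)
    (x := fun r => stageStalkMap x b (w r)) hb
  refine ⟨κ, g, fun q => (c.π.app k).stalkMap x (z q), fun r => ?_, hzero⟩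
  rw [← hw r, ← stageStalkMap_stalkMap x b, CommRingCat.comp_apply,
    show stageStalkMap x b (w r) = ∑ q, g r q • z q from hz r, map_sum]
  refine Finset.sum_congr rfl fun q _ => ?_
  rw [Algebra.smul_def, Algebra.smul_def, map_mul]
  congr 1
  exact congrArg (fun m => m (g r q)) (hθ k)

end Groth.Agent.TorsorLim25
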