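import Mathlib.CategoryTheory.Monoidal.Cartesian.Grp
import Mathlib.CategoryTheory.Monoidal.Internal.Limits

/-!
# Limits of group objects are computed in the ambient category
-/

set_option autoImplicit false
set_option backward.isDefEq.respectTransparency false
set_option linter.style.haveILetI false

universe w v u

open CategoryTheory Limits MonoidalCategory CartesianMonoidalCategory MonObj GrpObj

namespace Groth.Agent.TorsorLim25

variable {C : Type u} [Category.{v} C] [CartesianMonoidalCategory C] {J : Type w} [SmallCategory J]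

/-- A limit of group objects is a limit of the underlying objects when the latter exists. -/
theorem nonempty_isLimit_forget (F : J ⥤ Grp C) [HasLimit (F ⋙ Grp.forget C)] (cG : Cone F) (hcG : IsLimit cG) :
    Nonempty (IsLimit ((Grp.forget C).mapCone cG)) := by
  let F' : J ⥤ Mon C := F ⋙ Grp.forget₂Mon C
  haveI : HasLimit (F' ⋙ Mon.forget C) := ‹HasLimit (F ⋙ Grp.forget C)›
  let c0 := limit.cone (F' ⋙ Mon.forget C)
  let hc0 : IsLimit c0 := limit.isLimit _
  let cm := Mon.limitCone F' c0 hc0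
  let hcm : IsLimit cm := Mon.limitConeIsLimit F' c0 hc0
  let M := cm.pt
  let p : ∀ j, M.X ⟶ (F.obj j).X := fun j => c0.π.app j
  haveI : ∀ j, IsMonHom (p j) := fun j => (cm.π.app j).isMonHom_hom
  let inv' : M.X ⟶ M.X := hc0.lift
    { pt := M.X
      π.app j := p j ≫ ι[(F.obj j).X]
      π.naturality i j f := by
        have h1 : p i ≫ (F.map f).hom.hom = p j := c0.w f
        haveI := (F.map f).hom.isMonHom_hom
        show 𝟙 _ ≫ p j ≫ ι = (p i ≫ ι) ≫ (F.map f).hom.hom
        rw [Category.id_comp, ← Hom.inv_def, ← Hom.inv_def, GrpObj.inv_comp, h1] }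
  have hinv : ∀ j, inv' ≫ p j = p j ≫ ι[(F.obj j).X] := fun j => hc0.fac _ j
  letI gM : GrpObj M.X :=
    { inv := inv'
      left_inv := hc0.hom_ext fun j => by
        show (lift inv' (𝟙 M.X) ≫ μ[M.X]) ≫ p j = (toUnit _ ≫ η[M.X]) ≫ p j
        rw [Category.assoc, IsMonHom.mul_hom, lift_map_assoc, hinv, Category.id_comp, Category.assoc,
          IsMonHom.one_hom, ← Hom.inv_def, ← Hom.mul_def, inv_mul_cancel, Hom.one_def]
      right_inv := hc0.hom_ext fun j => by
        show (lift (𝟙 M.X) inv' ≫ μ[M.X]) ≫ p j = (toUnit _ ≫ η[M.X]) ≫ p j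
        rw [Category.assoc, IsMonHom.mul_hom, lift_map_assoc, hinv, Category.id_comp, Category.assoc,
          IsMonHom.one_hom, ← Hom.inv_def, ← Hom.mul_def, mul_inv_cancel, Hom.one_def] }
  let G' : Grp C := ⟨M.X⟩
  let s : Cone F :=
    { pt := G'
      π.app j := Grp.homMk (p j)
      π.naturality i j f := (Grp.forget C).map_injective (c0.π.naturality f) }
  let m : G' ⟶ cG.pt := hcG.lift s
  let q₀ : (Grp.forget₂Mon C).obj cG.pt ⟶ M := hcm.lift ((Grp.forget₂Mon C).mapCone cG)
  let q : cG.pt.X ⟶ M.X := q₀.hom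
  haveI : IsMonHom q := q₀.isMonHom_hom
  have hq : ∀ j, q ≫ p j = (cG.π.app j).hom.hom := fun j =>
    congrArg Mon.Hom.hom (hcm.fac ((Grp.forget₂Mon C).mapCone cG) j)
  have hm : ∀ j, m.hom.hom ≫ (cG.π.app j).hom.hom = p j := fun j =>
    congrArg (fun w => w.hom.hom) (hcG.fac s j)
  have e1 : m.hom.hom ≫ q = 𝟙 M.X := hc0.hom_ext fun j => by
    show (m.hom.hom ≫ q) ≫ p j = 𝟙 _ ≫ p j
    rw [Category.assoc, hq, hm, Category.id_comp]
  have e2' : (Grp.homMk q : cG.pt ⟶ G') ≫ m = 𝟙 cG.pt := hcG.hom_ext fun j => (Grp.forget C).map_injective (by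
    show (q ≫ m.hom.hom) ≫ (cG.π.app j).hom.hom = 𝟙 _ ≫ (cG.π.app j).hom.hom
    rw [Category.assoc, hm, hq, Category.id_comp])
  have e2 : q ≫ m.hom.hom = 𝟙 cG.pt.X := congrArg (fun w => w.hom.hom) e2'
  exact ⟨hc0.ofIsoLimit (Cone.ext (⟨m.hom.hom, q, e1, e2⟩) fun j => (hm j).symm)⟩

end Groth.Agent.TorsorLim25
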